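import Groth.Agent.ConnDiv.Domain
import Groth.Agent.FlatAscent.Smooth
import Groth.Agent.FlatAscent.Fibres
import Groth.Agent.ArtinFlat.HB
import Groth.Agent.DepthLib.RegularNormal
import Groth.Agent.ComodBasic.AffineHeight
import Groth.Prelude.Def_Pi1

/-!
# Normality and dimension of smooth and etale schemes
-/

universe u

open AlgebraicGeometry CategoryTheory TopologicalSpace

set_option backward.isDefEq.respectTransparency false

namespace Groth.Agent.ConnDiv

/-- A scheme etale over a normal locally Noetherian scheme is normal. -/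
theorem isNormalScheme_of_etale {X Y : Scheme.{u}} (g : Y ⟶ X) [Etale g] [IsLocallyNoetherian X]
    (hX : Pi1.IsNormalScheme X) : Pi1.IsNormalScheme Y := by
  haveI : IsLocallyNoetherian Y := LocallyOfFiniteType.isLocallyNoetherian g
  intro y
  obtain ⟨U, hU, hyU, -⟩ := exists_isAffineOpen_mem_and_subset (Opens.mem_top (g y))
  obtain ⟨V, hV, hyV, hVU⟩ := exists_isAffineOpen_mem_and_subset (show y ∈ g ⁻¹ᵁ U from hyU)
  have het : (g.appLE U V hVU).hom.Etale := HasRingHomProperty.appLE @Etale g ‹_› ⟨U, hU⟩ ⟨V, hV⟩ hVU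
  let := (g.appLE U V hVU).hom.toAlgebra
  haveI : Algebra.Etale Γ(X, U) Γ(Y, V) := het
  haveI : Algebra.Smooth Γ(X, U) Γ(Y, V) := inferInstance
  haveI : Module.Flat Γ(X, U) Γ(Y, V) := Algebra.Smooth.flat _ _
  haveI : IsNoetherianRing Γ(X, U) := IsLocallyNoetherian.component_noetherian (X := X) ⟨U, hU⟩
  haveI : IsNoetherianRing Γ(Y, V) := IsLocallyNoetherian.component_noetherian (X := Y) ⟨V, hV⟩
  have hA : EGA4.IsNormalRing Γ(X, U) := fun p _ => by
    let z : PrimeSpectrum Γ(X, U) := ⟨p, ‹_›⟩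
    letI := TopCat.Presheaf.algebra_section_stalk X.presheaf
      (⟨hU.fromSpec z, hU.range_fromSpec.le ⟨z, rfl⟩⟩ : U)
    haveI : IsLocalization.AtPrime (X.presheaf.stalk (hU.fromSpec z)) p :=
      hU.isLocalization_stalk' z (hU.range_fromSpec.le ⟨z, rfl⟩)
    let e := IsLocalization.algEquiv p.primeCompl (Localization.AtPrime p) (X.presheaf.stalk (hU.fromSpec z))
    obtain ⟨h1, h2⟩ := hX (hU.fromSpec z)
    exact ⟨e.toRingEquiv.toMulEquiv.isDomain, IsIntegrallyClosed.of_equiv e.toRingEquiv.symm⟩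
  have hB : EGA4.IsNormalRing Γ(Y, V) := FlatAscent.isNormalRing_of_fibres hA fun p _ => by
    haveI : Algebra.Smooth p.ResidueField (p.Fiber Γ(Y, V)) := inferInstance
    haveI := ArtinFlat.HB.isRegularRing_of_smooth p.ResidueField (p.Fiber Γ(Y, V))
    exact FlatAscent.isNormalRing_of_isRegularRing
  let q := (hV.primeIdealOf ⟨y, hyV⟩).asIdeal
  letI := TopCat.Presheaf.algebra_section_stalk Y.presheaf (⟨y, hyV⟩ : V)
  haveI : IsLocalization.AtPrime (Y.presheaf.stalk y) q := hV.isLocalization_stalk ⟨y, hyV⟩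
  let e := IsLocalization.algEquiv q.primeCompl (Localization.AtPrime q) (Y.presheaf.stalk y)
  obtain ⟨h1, h2⟩ := hB q
  exact ⟨e.toRingEquiv.symm.toMulEquiv.isDomain, IsIntegrallyClosed.of_equiv e.toRingEquiv⟩

/-- The sections of a smooth scheme over a field on an affine open form a regular ring. -/
theorem isRegularRing_of_smooth {L : Type u} [Field L] {X : Scheme.{u}} (f : X ⟶ Spec (CommRingCat.of L)) [Smooth f]
    {V : X.Opens} (hV : IsAffineOpen V) : IsRegularRing Γ(X, V) := by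
  have h : (f.appLE ⊤ V (by simp)).hom.Smooth :=
    HasRingHomProperty.appLE @Smooth f ‹_› ⟨⊤, isAffineOpen_top _⟩ ⟨V, hV⟩ (by simp)
  let φ : CommRingCat.of L ⟶ Γ(X, V) := (Scheme.ΓSpecIso (CommRingCat.of L)).inv ≫ f.appLE ⊤ V (by simp)
  let := φ.hom.toAlgebra
  haveI : Algebra.Smooth L Γ(X, V) := by
    refine RingHom.smooth_algebraMap.mp ?_
    exact (RingHom.Smooth.respectsIso.cancel_left_isIso (Scheme.ΓSpecIso (CommRingCat.of L)).inv (f.appLE ⊤ V (by simp))).mpr h
  exact ArtinFlat.HB.isRegularRing_of_smooth L Γ(X, V)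

/-- Local rings of a smooth scheme over a field are domains. -/
theorem isDomain_stalk_of_smooth {L : Type u} [Field L] {X : Scheme.{u}} (f : X ⟶ Spec (CommRingCat.of L)) [Smooth f]
    (x : X) : IsDomain (X.presheaf.stalk x) := by
  obtain ⟨V, hV, hxV, -⟩ := exists_isAffineOpen_mem_and_subset (Opens.mem_top x : x ∈ (⊤ : X.Opens))
  haveI := isRegularRing_of_smooth f hV
  let q := (hV.primeIdealOf ⟨x, hxV⟩).asIdeal
  letI := TopCat.Presheaf.algebra_section_stalk X.presheaf (⟨x, hxV⟩ : V)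
  haveI : IsLocalization.AtPrime (X.presheaf.stalk x) q := hV.isLocalization_stalk ⟨x, hxV⟩
  let e := IsLocalization.algEquiv q.primeCompl (Localization.AtPrime q) (X.presheaf.stalk x)
  obtain ⟨h1, -⟩ := FlatAscent.isNormalRing_of_isRegularRing (R := Γ(X, V)) q
  exact e.toRingEquiv.symm.toMulEquiv.isDomain

/-- A non-empty scheme smooth of relative dimension `d` over a field has dimension at least `d`. -/
theorem le_topologicalKrullDim_of_smoothOfRelativeDimension {L : Type u} [Field L] {X : Scheme.{u}}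
    (f : X ⟶ Spec (CommRingCat.of L)) (d : ℕ) [SmoothOfRelativeDimension d f] (x : X) :
    (d : WithBot ℕ∞) ≤ topologicalKrullDim X := by
  obtain ⟨U, hU, V, hV, hxV, e, h⟩ := SmoothOfRelativeDimension.exists_isStandardSmoothOfRelativeDimension (n := d) (f := f) x
  obtain ⟨gP, -, hgP⟩ := h.exists_etale_mvPolynomial
  let := gP.toAlgebra
  haveI : Algebra.Etale (MvPolynomial (Fin d) Γ(Spec (CommRingCat.of L), U)) Γ(X, V) := hgP
  haveI : Module.Flat (MvPolynomial (Fin d) Γ(Spec (CommRingCat.of L), U)) Γ(X, V) := Algebra.Smooth.flat _ _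
  have hUtop : U = ⊤ := by
    haveI : Subsingleton ↥(Spec (CommRingCat.of L)) := inferInstanceAs (Subsingleton (PrimeSpectrum L))
    exact TopologicalSpace.Opens.ext (Set.eq_univ_of_forall fun z => Subsingleton.elim (f x) z ▸ e hxV)
  have hfield : IsField Γ(Spec (CommRingCat.of L), U) := by
    subst hUtop
    exact MulEquiv.isField (Field.toIsField L) (Scheme.ΓSpecIso (CommRingCat.of L)).commRingCatIsoToRingEquiv.toMulEquiv
  letI : Field Γ(Spec (CommRingCat.of L), U) := hfield.toField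
  let K := Γ(Spec (CommRingCat.of L), U)
  haveI : Nontrivial Γ(X, V) := ⟨0, 1, fun h01 => (hV.primeIdealOf ⟨x, hxV⟩).isPrime.ne_top ((Ideal.eq_top_iff_one _).mpr (h01 ▸ Ideal.zero_mem _))⟩
  have hopen := PrimeSpectrum.isOpenMap_comap_of_hasGoingDown_of_finitePresentation
    (R := MvPolynomial (Fin d) K) (S := Γ(X, V))
  obtain ⟨m, ⟨q, rfl⟩, hm⟩ := nonempty_inter_closedPoints
    (Z := Set.range (PrimeSpectrum.comap (algebraMap (MvPolynomial (Fin d) K) Γ(X, V))))
    ⟨_, hV.primeIdealOf ⟨x, hxV⟩, rfl⟩ hopen.isOpen_range.isLocallyClosed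
  let p := q.asIdeal.under (MvPolynomial (Fin d) K)
  haveI : p.IsMaximal := (PrimeSpectrum.isClosed_singleton_iff_isMaximal _).mp hm
  have hh := ComodBasic.height_eq_of_isMaximal_mvPolynomial K d p inferInstance
  obtain ⟨l₀, hl₀, hlen⟩ := Ideal.exists_ltSeries_length_eq_height p
  haveI : q.asIdeal.LiesOver l₀.last.asIdeal := ⟨by rw [hl₀]⟩
  obtain ⟨l, hl, hlast, -⟩ := Ideal.exists_ltSeries_of_hasGoingDown l₀ q.asIdeal
  have h2 : (d : WithBot ℕ∞) ≤ ringKrullDim Γ(X, V) := by
    refine le_trans ?_ (Order.LTSeries.length_le_krullDim l)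
    rw [hl]
    rw [hh] at hlen
    exact_mod_cast hlen.ge
  refine h2.trans ?_
  rw [← PrimeSpectrum.topologicalKrullDim_eq_ringKrullDim]
  exact hV.fromSpec.isOpenEmbedding.isInducing.topologicalKrullDim_le

end Groth.Agent.ConnDiv
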