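import Groth.Agent.ProjPoint.Basic
import Groth.Agent.InvPow.Projective
import Groth.Agent.InvPow.Locus
import Groth.Agent.InvPow.GloballyGenerated
import Groth.Agent.InvPow.AmplePullback
import Groth.Agent.CohFinite.MorToAffine
import Groth.Agent.NagataLib.Scheme
import Groth.Agent.ProjTwist.Ample

/-!
# Projective completions of affine varieties, normalised

`exists_normal_completion`: an affine variety receives a finite surjective map from an open of a normal projective
variety whose complement is cut out by a section of an ample module.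
-/

universe u

open CategoryTheory CategoryTheory.Limits AlgebraicGeometry TopologicalSpace Opposite HomogeneousLocalization

set_option backward.isDefEq.respectTransparency false
set_option maxHeartbeats 800000
set_option synthInstance.maxHeartbeats 200000

namespace Groth.Agent.ConnDiv

open InvBasic ProjUniv Groth.Agent.InvPow

variable {k : Type u} [Field k]

/-- Points over the base. -/
theorem point_comp_toSpec {n : ℕ} {T : Type u} [CommRing T] (φ : k →+* T) (v : Fin (n + 1) → T)
    (i : Fin (n + 1)) (hi : IsUnit (v i)) :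
    ProjPoint.point φ v i hi ≫ CohB1.ProjSpace.toSpec n k = Spec.map (CommRingCat.ofHom φ) := by
  have h : (ProjPoint.evalAway φ v (MvPolynomial.X i) (ProjPoint.isUnit_eval_X hi)).comp
      (ProjPoint.chartBase (R := k) i) = φ := by
    ext r
    have hC : (MvPolynomial.C r : MvPolynomial (Fin (n + 1)) k) ∈ CohB1.polyGrading n k (0 • 1) := by
      rw [zero_smul]; exact MvPolynomial.isHomogeneous_C _ r
    have e : ProjPoint.chartBase (R := k) i r = Away.mk (CohB1.polyGrading n k) (ProjPoint.X_mem i) 0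
        (MvPolynomial.C r) hC := by
      apply HomogeneousLocalization.val_injective
      show (HomogeneousLocalization.mk _ : Away (CohB1.polyGrading n k) _).val = _
      rw [HomogeneousLocalization.val_mk, Away.val_mk]
      rfl
    have h2 := ProjPoint.evalAway_mk φ v (ProjPoint.isUnit_eval_X hi) (ProjPoint.X_mem i) 0 (MvPolynomial.C r) hC
    rw [pow_zero, mul_one, MvPolynomial.eval₂Hom_C, ← e] at h2
    exact h2
  rw [ProjPoint.point, CohB1.ProjSpace.toSpec, Category.assoc, Proj.awayι_toSpecZero_assoc, ← Spec.map_comp,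
    ← Spec.map_comp]
  exact congrArg (fun r => Spec.map (CommRingCat.ofHom r)) h

/-- An affine scheme of finite type over a field embeds into a chart of projective space. -/
theorem exists_chart_immersion (U : Scheme.{u}) [IsAffine U] (g : U ⟶ Spec (CommRingCat.of k))
    [LocallyOfFiniteType g] :
    ∃ (n : ℕ) (q : U ⟶ CohB1.ProjSpace n k), IsImmersion q ∧ q ≫ CohB1.ProjSpace.toSpec n k = g ∧
      (∀ z, q z ∈ Proj.basicOpen (CohB1.polyGrading n k) (MvPolynomial.X 0)) ∧
      ∀ x ∈ closure (Set.range q), x ∈ Proj.basicOpen (CohB1.polyGrading n k) (MvPolynomial.X 0) → x ∈ Set.range q := by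
  let φ : CommRingCat.of k ⟶ Γ(U, ⊤) := (Scheme.ΓSpecIso (CommRingCat.of k)).inv ≫ g.appTop
  algebraize [φ.hom]
  have : Algebra.FiniteType k Γ(U, ⊤) := by
    refine (RingHom.finiteType_algebraMap).mp ?_
    have := ((HasRingHomProperty.iff_of_isAffine (P := @LocallyOfFiniteType) (f := g)).mp ‹_›)
    exact this.comp (RingHom.FiniteType.of_surjective _
      (Scheme.ΓSpecIso (CommRingCat.of k)).commRingCatIsoToRingEquiv.symm.surjective)
  obtain ⟨n, a, ha⟩ := Algebra.FiniteType.iff_quotient_mvPolynomial''.mp this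
  let v : Fin (n + 1) → Γ(U, ⊤) := Fin.cons 1 fun j => a (MvPolynomial.X j)
  let e := ProjPoint.evalAway φ.hom v (MvPolynomial.X 0) (ProjPoint.isUnit_eval_X (i := 0) (by simp [v]))
  have he : Function.Surjective e := by
    intro z
    obtain ⟨p, rfl⟩ := ha z
    induction p using MvPolynomial.induction_on with
    | C r =>
      have hC : (MvPolynomial.C r : MvPolynomial (Fin (n + 1)) k) ∈ CohB1.polyGrading n k (0 • 1) := by
        rw [zero_smul]; exact MvPolynomial.isHomogeneous_C _ r
      refine ⟨Away.mk _ (ProjPoint.X_mem 0) 0 (MvPolynomial.C r) hC, ?_⟩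
      have h := ProjPoint.evalAway_mk φ.hom v (ProjPoint.isUnit_eval_X (i := 0) (by simp [v])) (ProjPoint.X_mem 0) 0
        (MvPolynomial.C r) hC
      rw [pow_zero, mul_one, MvPolynomial.eval₂Hom_C] at h
      exact h.trans (a.commutes r).symm
    | add p q hp hq =>
      obtain ⟨x, hx⟩ := hp
      obtain ⟨y, hy⟩ := hq
      exact ⟨x + y, by rw [map_add, map_add, hx, hy]⟩
    | mul_X p j hp =>
      obtain ⟨x, hx⟩ := hp
      refine ⟨x * ProjPoint.coord 0 j.succ, ?_⟩
      have h := ProjPoint.evalAway_mk φ.hom v (ProjPoint.isUnit_eval_X (i := 0) (by simp [v])) (ProjPoint.X_mem 0) 1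
        (MvPolynomial.X j.succ) (by simpa using ProjPoint.X_mem j.succ)
      simp only [MvPolynomial.eval₂Hom_X', v, Fin.cons_zero, Fin.cons_succ, pow_one, mul_one] at h
      rw [map_mul, map_mul, hx]
      exact congrArg (_ * ·) h
  let c := Spec.map (CommRingCat.ofHom e)
  haveI : IsClosedImmersion c := IsClosedImmersion.spec_of_surjective _ he
  let w := Proj.awayι (CohB1.polyGrading n k) (MvPolynomial.X 0) (ProjPoint.X_mem 0) one_pos
  refine ⟨n, U.isoSpec.hom ≫ c ≫ w, inferInstance, ?_, fun z => ?_, fun x hx hxB => ?_⟩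
  · have h := point_comp_toSpec φ.hom v 0 (by simp [v])
    rw [ProjPoint.point, Category.assoc] at h
    show (U.isoSpec.hom ≫ c ≫ w) ≫ _ = g
    rw [Category.assoc, Category.assoc, h]
    show U.toSpecΓ ≫ Spec.map ((Scheme.ΓSpecIso (CommRingCat.of k)).inv ≫ g.appTop) = g
    rw [Spec.map_comp, ← Scheme.toSpecΓ_naturality_assoc, toSpecΓ_SpecMap_ΓSpecIso_inv, Category.comp_id]
  · rw [← Proj.opensRange_awayι (CohB1.polyGrading n k) (MvPolynomial.X 0) (ProjPoint.X_mem 0) one_pos]
    exact ⟨(U.isoSpec.hom ≫ c) z, rfl⟩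
  · obtain ⟨y, rfl⟩ : x ∈ Set.range w := by
      rw [← Scheme.Hom.coe_opensRange, Proj.opensRange_awayι]
      exact hxB
    have hy : y ∈ closure (Set.range (U.isoSpec.hom ≫ c)) := by
      rw [w.isOpenEmbedding.isInducing.closure_eq_preimage_closure_image]
      refine Set.mem_preimage.mpr (closure_mono ?_ hx)
      rintro _ ⟨z, rfl⟩
      exact ⟨(U.isoSpec.hom ≫ c) z, ⟨z, rfl⟩, rfl⟩
    rw [(U.isoSpec.hom ≫ c).isClosedEmbedding.isClosed_range.closure_eq] at hy
    obtain ⟨z, rfl⟩ := hy
    exact ⟨z, rfl⟩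

/-- **Normal projective completions.** -/
theorem exists_normal_completion (U : Scheme.{u}) [IsAffine U] [IsIntegral U] (g : U ⟶ Spec (CommRingCat.of k))
    [LocallyOfFiniteType g] :
    ∃ (V : Scheme.{u}) (p : V ⟶ Spec (CommRingCat.of k)) (_ : IsProper p) (_ : IsIntegral V) (L : V.Modules)
      (hL : CohB1.IsAmple L) (σ : Γ(L, ⊤)) (_ : Pi1.IsNormalScheme V)
      (h : (genOpen hL.1 σ).toScheme ⟶ U), IsFinite h ∧ Function.Surjective h ∧
        h ≫ g = (genOpen hL.1 σ).ι ≫ p ∧ IsAffineOpen (genOpen hL.1 σ) := by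
  obtain ⟨n, q, hq, hqg, hin, hcl⟩ := exists_chart_immersion U g
  haveI : IsProper (CohB1.ProjSpace.toSpec n k) := InvPow.isProper_toSpec n k
  haveI : IsSeparated (CohB1.ProjSpace.toSpec n k) := inferInstance
  haveI : CompactSpace U := inferInstance
  haveI : QuasiSeparatedSpace (CohB1.ProjSpace n k) :=
    quasiSeparatedSpace_of_quasiSeparated (CohB1.ProjSpace.toSpec n k)
  haveI : QuasiCompact q := inferInstance
  haveI := CohFinite.isReduced_image q
  haveI : IrreducibleSpace q.image := by
    rw [irreducibleSpace_def]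
    convert ((IrreducibleSpace.isIrreducible_univ U).image _ q.toImage.continuous.continuousOn).closure
    simpa using q.toImage.denseRange.closure_range.symm
  haveI : IsIntegral q.image := isIntegral_of_irreducibleSpace_of_isReduced _
  let V₀ := q.image
  let p₀ : V₀ ⟶ Spec (CommRingCat.of k) := q.imageι ≫ CohB1.ProjSpace.toSpec n k
  haveI : IsProper p₀ := inferInstance
  -- the normalisation
  let φ := RingHom.id V₀.functionField
  let gK : Spec (CommRingCat.of V₀.functionField) ⟶ V₀ :=
    Spec.map (CommRingCat.ofHom φ) ≫ V₀.fromSpecStalk (genericPoint V₀)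
  haveI : QuasiSeparatedSpace V₀ := quasiSeparatedSpace_of_quasiSeparated p₀
  haveI : QuasiCompact gK := inferInstance
  haveI : QuasiSeparated gK := inferInstance
  haveI hfin : IsFinite gK.fromNormalization := by
    refine Groth.Agent.NagataLib.isFinite_fromNormalization_generic φ gK rfl fun W hW hne => ?_
    let := (φ.comp (V₀.germToFunctionField W).hom).toAlgebra
    have := functionField_isFractionRing_of_isAffineOpen V₀ W hW
    have hN := Groth.Agent.NagataLib.isNagata_of_locallyOfFiniteType k V₀ p₀ W hW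
    exact Groth.Agent.NagataLib.finite_integralClosure_of_isN2
      (Groth.Agent.NagataLib.isN2_of_ringEquiv (RingEquiv.quotientBot _) (hN.2 ⊥)) V₀.functionField V₀.functionField
  let V := gK.normalization
  let ν := gK.fromNormalization
  haveI : IsIntegral V := inferInstance
  have hN : Pi1.IsNormalScheme V := Groth.Agent.NagataLib.isNormalScheme_normalization φ gK rfl
  haveI : Surjective ν := Groth.Agent.NagataLib.surjective_fromNormalization φ gK rfl
  haveI : IsProper (ν ≫ p₀) := inferInstance
  haveI : CompactSpace V := QuasiCompact.compactSpace_of_compactSpace (ν ≫ p₀)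
  -- the ample module
  haveI : CompactSpace (Proj (CohB1.polyGrading n k)) :=
    QuasiCompact.compactSpace_of_compactSpace (CohB1.ProjSpace.toSpec n k)
  have hcov : ∀ x : ProjectiveSpectrum (CohB1.polyGrading n k),
      ∃ t ∈ CohB1.polyGrading n k 1, t ∉ x.asHomogeneousIdeal := fun x => by
    have hx : x ∈ (⊤ : (CohB1.ProjSpace n k).Opens) := trivial
    rw [← ProjPoint.iSup_basicOpen_X, Opens.mem_iSup] at hx
    obtain ⟨i, hi⟩ := hx
    exact ⟨MvPolynomial.X i, ProjPoint.X_mem i, hi⟩
  have hA := ProjTwist.isAmple_twist (𝒜 := CohB1.polyGrading n k) one_pos hcov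
  let X0 : CohB1.polyGrading n k 1 := ⟨MvPolynomial.X 0, ProjPoint.X_mem 0⟩
  let t₀ := ProjTwist.globalSec (CohB1.polyGrading n k) X0
  have ht₀ : genOpen hA.1 t₀ = Proj.basicOpen (CohB1.polyGrading n k) (MvPolynomial.X 0) := by
    rw [← genLocus_globalHom hA.1 t₀]
    exact ProjTwist.genLocus_globalSec (CohB1.polyGrading n k) X0 (by simpa using ProjTwist.hasUnit_of_cover hcov 1)
  obtain ⟨t₁, ht₁⟩ := exists_gen_pow_one hA.1 t₀
  let ρ : V ⟶ CohB1.ProjSpace n k := ν ≫ q.imageι
  haveI : IsFinite ρ := inferInstance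
  have hM : CohB1.IsAmple ((Scheme.Modules.pullback ρ).obj (Twist.twist (CohB1.polyGrading n k) ((1 : ℕ) : ℤ))) :=
    InvPow.isAmple_pullback hA ρ fun y => by
      obtain ⟨W, hW, hyW, -⟩ := exists_isAffineOpen_mem_and_subset (Opens.mem_top (ρ y))
      exact ⟨W, hyW, hW.preimage ρ⟩
  obtain ⟨σ, hσ⟩ := (trPull ρ hA.1).exists_map hA.1 (k := 1) (one_mul 1) t₁
  have hL := InvPow.isAmple_pow hM (one_pos (α := ℕ))
  have hσ' : genOpen hL.1 σ = ρ ⁻¹ᵁ Proj.basicOpen (CohB1.polyGrading n k) (MvPolynomial.X 0) := by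
    rw [← ht₀, ← ht₁]
    exact hσ
  have haff : IsAffineOpen (genOpen hL.1 σ) := by
    rw [hσ']
    exact (Proj.isAffineOpen_basicOpen _ _ (ProjPoint.X_mem 0) one_pos).preimage ρ
  -- the map to `U`
  have hopen : q.toImage.opensRange = q.imageι ⁻¹ᵁ Proj.basicOpen (CohB1.polyGrading n k) (MvPolynomial.X 0) := by
    apply TopologicalSpace.Opens.ext
    refine Set.Subset.antisymm (fun z hz => ?_) (fun z hz => ?_)
    · obtain ⟨w, rfl⟩ := hz
      show q.imageι (q.toImage w) ∈ Proj.basicOpen (CohB1.polyGrading n k) (MvPolynomial.X 0)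
      rw [← Scheme.Hom.comp_apply, q.toImage_imageι]
      exact hin w
    · have hmem : q.imageι z ∈ closure (Set.range q) := by
        have hz' : z ∈ closure (Set.range q.toImage) := by rw [q.toImage.denseRange.closure_range]; trivial
        have := image_closure_subset_closure_image q.imageι.continuous ⟨z, hz', rfl⟩
        refine closure_mono ?_ this
        rintro _ ⟨_, ⟨w, rfl⟩, rfl⟩
        exact ⟨w, by rw [← Scheme.Hom.comp_apply, q.toImage_imageι]⟩
      obtain ⟨w, hw⟩ := hcl _ hmem hz
      refine ⟨w, q.imageι.isClosedEmbedding.injective ?_⟩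
      rw [← Scheme.Hom.comp_apply, q.toImage_imageι, hw]
  have hpre : genOpen hL.1 σ = ν ⁻¹ᵁ q.toImage.opensRange := by rw [hσ', hopen]; rfl
  let r : (genOpen hL.1 σ).toScheme ⟶ U :=
    (V.isoOfEq hpre).hom ≫ (ν ∣_ q.toImage.opensRange) ≫ q.toImage.isoOpensRange.inv
  refine ⟨V, ν ≫ p₀, inferInstance, inferInstance, _, hL, σ, hN, r, inferInstance, ?_, ?_, haff⟩
  · haveI : Surjective (ν ∣_ q.toImage.opensRange) :=
      IsZariskiLocalAtTarget.restrict (P := @Surjective) ‹Surjective ν› _
    haveI : Surjective r := inferInstance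
    exact Scheme.Hom.surjective r
  · have h1 : q.toImage.isoOpensRange.inv ≫ q.toImage = q.toImage.opensRange.ι := q.toImage.isoOpensRange_inv_comp
    rw [← hqg]
    show (_ ≫ _ ≫ _) ≫ q ≫ _ = _
    rw [show q ≫ CohB1.ProjSpace.toSpec n k = q.toImage ≫ p₀ by
      rw [← Category.assoc, q.toImage_imageι]]
    simp only [Category.assoc]
    rw [reassoc_of% h1, morphismRestrict_ι_assoc, Scheme.isoOfEq_hom_ι_assoc]

end Groth.Agent.ConnDiv
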