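import Groth.Agent.ConnDiv.Main
import Groth.Agent.ConnDiv.Normality
import Groth.Agent.S7552
import Groth.Prelude.Def_FEt

/-!
# Connected finite etale covers of normal varieties
-/

universe u

open CategoryTheory CategoryTheory.Limits AlgebraicGeometry TopologicalSpace

set_option backward.isDefEq.respectTransparency false

namespace Groth.Agent.ConnDiv

variable {k : Type u} [Field k]

/-- A scheme with domain local rings is reduced. -/
theorem isReduced_of_isNormalScheme {X : Scheme.{u}} (hN : Pi1.IsNormalScheme X) : AlgebraicGeometry.IsReduced X := by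
  haveI : ∀ x : X, _root_.IsReduced (X.presheaf.stalk x) := fun x => by
    haveI := (hN x).1
    infer_instance
  exact isReduced_of_isReduced_stalk X

/-- A connected finite etale cover of a normal variety is a normal variety of the same dimension. -/
theorem cover_facts {X : Scheme.{u}} (f : X ⟶ Spec (CommRingCat.of k)) [IsProper f] [IrreducibleSpace X]
    (hN : Pi1.IsNormalScheme X) (Y : FEt.Cat X) [ConnectedSpace Y.left] :
    IsFinite Y.hom ∧ IsProper (Y.hom ≫ f) ∧ IsIntegral Y.left ∧ Pi1.IsNormalScheme Y.left ∧
      Function.Surjective Y.hom ∧ topologicalKrullDim X ≤ topologicalKrullDim Y.left := by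
  let q : Y.left ⟶ X := Y.hom
  haveI : IsFinite q := Y.prop.1
  haveI : Etale q := Y.prop.2
  haveI : IsLocallyNoetherian X := LocallyOfFiniteType.isLocallyNoetherian f
  haveI : IsLocallyNoetherian Y.left := LocallyOfFiniteType.isLocallyNoetherian q
  haveI : IsProper (q ≫ f) := inferInstance
  haveI : CompactSpace Y.left := QuasiCompact.compactSpace_of_compactSpace (q ≫ f)
  have hYN : Pi1.IsNormalScheme Y.left := isNormalScheme_of_etale q hN
  haveI : IrreducibleSpace Y.left := irreducibleSpace_of_isDomain_stalk Y.left (fun y => (hYN y).1)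
  haveI : AlgebraicGeometry.IsReduced Y.left := isReduced_of_isNormalScheme hYN
  haveI : IsIntegral Y.left := isIntegral_of_irreducibleSpace_of_isReduced _
  have hcl : IsClosed (Set.range q) := q.isClosedMap.isClosed_range
  have hop : IsOpen (Set.range q) := q.isOpenMap.isOpen_range
  obtain ⟨y⟩ := (inferInstance : Nonempty Y.left)
  have hsur : Function.Surjective q :=
    Set.range_eq_univ.mp (IsClopen.eq_univ (⟨hcl, hop⟩ : IsClopen (Set.range q)) ⟨_, y, rfl⟩)
  exact ⟨‹IsFinite q›, ‹IsProper (q ≫ f)›, ‹_›, hYN, hsur, Groth.Agent.S7552.result (X := Y.left) (Y := X) q q.continuous hsur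
    (Or.inl q.isClosedMap.specializingMap)⟩

end Groth.Agent.ConnDiv
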