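import Mathlib

/-!
# Connected schemes with domain local rings
-/

universe u

open AlgebraicGeometry CategoryTheory TopologicalSpace

namespace Groth.Agent.ConnDiv

/-- A connected Noetherian scheme whose local rings are domains is irreducible. -/
theorem irreducibleSpace_of_isDomain_stalk (X : Scheme.{u}) [IsLocallyNoetherian X] [CompactSpace X]
    [ConnectedSpace X] (h : ∀ x : X, IsDomain (X.presheaf.stalk x)) : IrreducibleSpace X := by
  haveI : IsNoetherian X := {}
  have huniq : ∀ (x : X) (Z Z' : Set X), Z ∈ irreducibleComponents X → Z' ∈ irreducibleComponents X →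
      x ∈ Z → x ∈ Z' → Z = Z' := by
    intro x Z Z' hZ hZ' hxZ hxZ'
    haveI := h x
    let η : X := X.fromSpecStalk x (⊥ : PrimeSpectrum (X.presheaf.stalk x))
    suffices ∀ W, W ∈ irreducibleComponents X → x ∈ W → closure {η} = W from
      (this Z hZ hxZ).symm.trans (this Z' hZ' hxZ')
    intro W hW hxW
    have hWc := isClosed_of_mem_irreducibleComponents W hW
    obtain ⟨ζ, hζ⟩ := QuasiSober.sober hW.1 hWc
    have hsp : ζ ⤳ x := hζ.specializes hxW
    obtain ⟨p, hp⟩ : ζ ∈ Set.range (X.fromSpecStalk x) := by rw [Scheme.range_fromSpecStalk]; exact hsp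
    have h1 : η ⤳ ζ := by
      rw [← hp]
      exact ((PrimeSpectrum.le_iff_specializes (⊥ : PrimeSpectrum (X.presheaf.stalk x)) p).mp bot_le).map
        (X.fromSpecStalk x).continuous
    have h2 : W ≤ closure {η} := by
      rw [← hζ.def]
      exact closure_minimal (Set.singleton_subset_iff.mpr (specializes_iff_mem_closure.mp h1)) isClosed_closure
    exact le_antisymm (hW.2 isIrreducible_singleton.closure h2) h2
  obtain ⟨x₀⟩ := (inferInstance : Nonempty X)
  let Z₀ := irreducibleComponent x₀
  have hZ₀ : Z₀ ∈ irreducibleComponents X := irreducibleComponent_mem_irreducibleComponents x₀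
  have hfin := (NoetherianSpace.finite_irreducibleComponents (α := X)).sdiff (t := {Z₀})
  have hcl : IsClosed (⋃₀ (irreducibleComponents X \ {Z₀})) :=
    Set.sUnion_eq_biUnion ▸ hfin.isClosed_biUnion fun Z hZ => isClosed_of_mem_irreducibleComponents Z hZ.1
  have hcompl : Z₀ = (⋃₀ (irreducibleComponents X \ {Z₀}))ᶜ := by
    ext y
    refine ⟨fun hy hy' => ?_, fun hy => ?_⟩
    · obtain ⟨Z, ⟨hZ, hne⟩, hyZ⟩ := hy'
      exact hne (huniq y Z Z₀ hZ hZ₀ hyZ hy)
    · by_contra hy0
      refine hy ⟨irreducibleComponent y, ⟨irreducibleComponent_mem_irreducibleComponents y, fun he => ?_⟩,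
        mem_irreducibleComponent⟩
      exact hy0 ((Set.mem_singleton_iff.mp he) ▸ mem_irreducibleComponent)
  have hclopen : IsClopen Z₀ := ⟨isClosed_of_mem_irreducibleComponents Z₀ hZ₀, hcompl ▸ hcl.isOpen_compl⟩
  have h2 := hZ₀.1
  rw [hclopen.eq_univ ⟨x₀, mem_irreducibleComponent⟩] at h2
  exact (irreducibleSpace_def _).mpr h2

end Groth.Agent.ConnDiv
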