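import Groth.Agent.ConnDiv.Main
import Groth.Agent.InvPow.LocusAffine
import Groth.Agent.HilbPoly.NegTwist
import Groth.Agent.S8914

/-!
# Connected supports of ample divisors
-/

universe u

open CategoryTheory CategoryTheory.Limits AlgebraicGeometry TopologicalSpace Opposite

set_option backward.isDefEq.respectTransparency false
set_option maxHeartbeats 800000

namespace Groth.Agent.ConnDiv

open InvBasic ProjUniv Groth.Agent.InvPow

variable {X : Scheme.{u}} {k : Type u} [Field k]

/-- The locus where a section of an ample module generates is affine on a proper scheme. -/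
theorem isAffineOpen_genOpen (f : X ⟶ Spec (CommRingCat.of k)) [IsProper f] {L : X.Modules}
    (hL : CohB1.IsAmple L) (σ : Γ(L, ⊤)) : IsAffineOpen (genOpen hL.1 σ) := by
  obtain ⟨σ', hσ'⟩ := exists_gen_pow_one hL.1 σ
  exact isAffineOpen_genOpen_of_universallyClosed hL f one_pos σ' _ hσ'

/-- **Supports of ample effective divisors are connected.** -/
theorem isConnected_compl_genOpen' (f : X ⟶ Spec (CommRingCat.of k)) [IsProper f] [IrreducibleSpace X]
    (hdim : 2 ≤ topologicalKrullDim X) {L : X.Modules} (hL : CohB1.IsAmple L) (σ : Γ(L, ⊤))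
    (hne : (genOpen hL.1 σ : Set X).Nonempty) : _root_.IsConnected ((genOpen hL.1 σ : Set X)ᶜ) :=
  isConnected_compl_affineOpen f hdim (isAffineOpen_genOpen f hL σ) hne

/-- The complement of the support of an effective Cartier divisor is the locus where the tautological section
of an inverse of its ideal generates. -/
theorem exists_section_compl_support {I : X.IdealSheafData} (hI : PicF.IsInvertible (ClSub.idealMod I))
    {L : X.Modules} (hL : PicF.IsInvertible L) (hLI : ClSub.IsInverseOf L (ClSub.idealMod I)) :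
    ∃ σ : Γ(L, ⊤), (genOpen hL σ : Set X)ᶜ = I.support := by
  obtain ⟨Φ⟩ := hLI
  choose V hxV hV ℓ μ hℓ hμ hΦ using HilbPoly.exists_paired_bases hL Φ
  let c : ∀ x, Γ(X, V x) := fun x => OmegaSh.idealSect I (V x) (μ x)
  obtain ⟨σ, hσ⟩ := exists_glue_sections L V (fun x => ⟨x, hxV x⟩) (fun x => c x • ℓ x) fun i j => by
    have hi : V i ⊓ V j ≤ V i := inf_le_left
    have hj : V i ⊓ V j ≤ V j := inf_le_right
    obtain ⟨a, ha⟩ := exists_coef (isBasis_res (hℓ j) hj) (res L hi (ℓ i))
    obtain ⟨b, hb⟩ := exists_coef (isBasis_res (hμ j) hj) (res (ClSub.idealMod I) hi (μ i))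
    have hab : b * a = 1 := by
      have e1 := congrArg (res (Coh.structureModule X) hi) (hΦ i)
      have e2 := congrArg (res (Coh.structureModule X) hj) (hΦ j)
      have key : ∀ (x : X) (h : V i ⊓ V j ≤ V x), res (Coh.structureModule X) h (Φ.hom.app (V x)
          (SecTwist.tmul L (ClSub.idealMod I) (V x) (ℓ x) (μ x))) = Φ.hom.app (V i ⊓ V j)
          (SecTwist.tmul L (ClSub.idealMod I) (V i ⊓ V j) (res L h (ℓ x)) (res (ClSub.idealMod I) h (μ x))) :=
        fun x h => (QCohLib.app_map Φ.hom h _).symm.trans (congrArg (Φ.hom.app _) (HilbPoly.res_tmul _ _ h _ _))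
      have hone : ∀ (x : X) (h : V i ⊓ V j ≤ V x),
          res (Coh.structureModule X) h (oneSec X (V x)) = oneSec X (V i ⊓ V j) := fun x h => res_oneSec h
      rw [key, hone, ha, hb, ProjCoh.tmul_smul_right, smul_smul, ProjCoh.tmul_smul_left,
        Scheme.Modules.Hom.app_smul] at e1
      rw [key, hone] at e2
      rw [e2, smul_oneSec] at e1
      exact e1
    rw [res_smul, res_smul, ha, smul_smul]
    congr 1
    show resR hi (c i) * a = resR hj (c j)
    have hci : resR hi (c i) = b * resR hj (c j) := by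
      refine (S8914.idealSect_map I hi (μ i)).symm.trans ?_
      rw [show (ClSub.idealMod I).presheaf.map (homOfLE hi).op (μ i) = _ from hb,
        ConormalSection.idealSect_smul]
      exact congrArg (b * ·) (S8914.idealSect_map I hj (μ j))
    rw [hci, mul_right_comm, hab, one_mul]
  refine ⟨σ, ?_⟩
  ext x
  have hloc := genOpen_inf_eq_basicOpen hL (hℓ x) (hσ x)
  rw [Set.mem_compl_iff, SetLike.mem_coe, SetLike.mem_coe,
    Scheme.IdealSheafData.mem_support_iff_of_mem (U := ⟨V x, hV x⟩) (hxV x), Scheme.mem_zeroLocus_iff]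
  constructor
  · intro hx a ha hxa
    obtain ⟨m, rfl⟩ := ConormalSection.exists_idealSect_eq I ⟨V x, hV x⟩ a ha
    obtain ⟨r, rfl⟩ := exists_coef (hμ x) m
    rw [ConormalSection.idealSect_smul, X.basicOpen_mul] at hxa
    exact hx (hloc.ge hxa.2).1
  · intro h hx
    exact h (c x) (ConormalSection.idealSect_mem I ⟨V x, hV x⟩ (μ x)) (hloc.le ⟨hx, hxV x⟩)

end Groth.Agent.ConnDiv
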