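import Groth.Agent.ConnDiv.Normal
import Groth.Agent.ConnDiv.Closure
import Groth.Agent.S15544
import Groth.Agent.ZarConn.OverField
import Groth.Agent.GeomRedAt.InsepScheme

/-!
# Complements of affine opens are connected

`isConnected_compl_affineOpen`: in an irreducible proper scheme of dimension at least two over a field the
complement of a non-empty affine open subset is connected.
-/

universe u

open CategoryTheory CategoryTheory.Limits AlgebraicGeometry TopologicalSpace Opposite

set_option backward.isDefEq.respectTransparency false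
set_option maxHeartbeats 800000

namespace Groth.Agent.ConnDiv

open ProjUniv

/-- A morphism into a separated scheme over `Q`, proper over an open of `Q`, has closed range over that open. -/
theorem mem_range_of_mem_closure {A P Q : Scheme.{u}} (γ : A ⟶ P) (p : P ⟶ Q) [IsSeparated p] (W : Q.Opens)
    (h : A ⟶ W.toScheme) [IsProper h] (hh : h ≫ W.ι = γ ≫ p) {c : P} (hc : c ∈ closure (Set.range γ))
    (hcW : p c ∈ W) : c ∈ Set.range γ := by
  have hsub : Set.range γ ⊆ Set.range (p ⁻¹ᵁ W).ι := by
    rintro _ ⟨a, rfl⟩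
    rw [Scheme.Opens.range_ι]
    show p (γ a) ∈ W
    rw [← Scheme.Hom.comp_apply, ← hh, Scheme.Hom.comp_apply]
    exact (h a).2
  let γ' := IsOpenImmersion.lift (p ⁻¹ᵁ W).ι γ hsub
  have hγ : γ' ≫ (p ⁻¹ᵁ W).ι = γ := IsOpenImmersion.lift_fac _ _ _
  have hcomp : γ' ≫ p ∣_ W = h := by
    rw [← cancel_mono W.ι, Category.assoc, morphismRestrict_ι, reassoc_of% hγ, hh]
  haveI : IsProper (γ' ≫ p ∣_ W) := by rw [hcomp]; infer_instance
  haveI : IsProper γ' := IsProper.of_comp γ' (p ∣_ W)
  obtain ⟨c', rfl⟩ : c ∈ Set.range (p ⁻¹ᵁ W).ι := by rw [Scheme.Opens.range_ι]; exact hcW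
  have hc' : c' ∈ closure (Set.range γ') := by
    rw [(p ⁻¹ᵁ W).ι.isOpenEmbedding.isInducing.closure_eq_preimage_closure_image]
    refine Set.mem_preimage.mpr (closure_mono ?_ hc)
    rintro _ ⟨a, rfl⟩
    exact ⟨γ' a, ⟨a, rfl⟩, by rw [← Scheme.Hom.comp_apply, hγ]⟩
  rw [γ'.isClosedMap.isClosed_range.closure_eq] at hc'
  obtain ⟨a, rfl⟩ := hc'
  exact ⟨a, by rw [← Scheme.Hom.comp_apply, hγ]⟩

/-- The preimage of a connected closed set under a proper map with connected fibres. -/
theorem isConnected_preimage {Y V : Type*} [TopologicalSpace Y] [TopologicalSpace V] (π : Y → V)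
    (hc : IsClosedMap π) (hf : ∀ v, _root_.IsConnected (π ⁻¹' {v})) {B : Set V} (hB : _root_.IsConnected B) :
    _root_.IsConnected (π ⁻¹' B) := by
  refine ⟨?_, ?_⟩
  · obtain ⟨v, hv⟩ := hB.nonempty
    obtain ⟨y, hy⟩ := (hf v).nonempty
    exact ⟨y, show π y ∈ B from (Set.mem_singleton_iff.mp hy).symm ▸ hv⟩
  rw [isPreconnected_iff_preconnectedSpace]
  haveI : PreconnectedSpace B := isPreconnected_iff_preconnectedSpace.mp hB.2
  refine ZarConnField.preconnectedSpace_of_closed_surjective (B.restrictPreimage π)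
    (fun v => ?_) (hc.restrictPreimage B) fun v => ?_
  · obtain ⟨y, hy⟩ := (hf v.1).nonempty
    exact ⟨⟨y, show π y ∈ B from (Set.mem_singleton_iff.mp hy).symm ▸ v.2⟩, Subtype.ext hy⟩
  · refine Topology.IsInducing.subtypeVal.isPreconnected_image.mp ?_
    have e : Subtype.val '' (B.restrictPreimage π ⁻¹' {v}) = π ⁻¹' {v.1} := by
      ext y
      constructor
      · rintro ⟨⟨y, hy⟩, hy', rfl⟩
        exact congrArg Subtype.val hy'
      · intro hy
        exact ⟨⟨y, show π y ∈ B from (Set.mem_singleton_iff.mp hy).symm ▸ v.2⟩, Subtype.ext hy, rfl⟩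
    rw [e]
    exact (hf v.1).2

variable {k : Type u} [Field k]

/-- The integral case. -/
theorem isConnected_compl_of_isIntegral {X : Scheme.{u}} (f : X ⟶ Spec (CommRingCat.of k)) [IsProper f]
    [IsIntegral X] (hdim : 2 ≤ topologicalKrullDim X) {U : X.Opens} (hU : IsAffineOpen U)
    (hne : (U : Set X).Nonempty) : _root_.IsConnected ((U : Set X)ᶜ) := by
  haveI : IsAffine U.toScheme := hU
  haveI : Nonempty U.toScheme := ⟨⟨_, hne.choose_spec⟩⟩
  haveI : IsIntegral U.toScheme := inferInstance
  obtain ⟨V, pV, hpV, hV, L, hL, σ, hN, h, hfin, hsur, hcomm, hWaff⟩ :=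
    exists_normal_completion U.toScheme (U.ι ≫ f)
  let W : V.Opens := genOpen hL.1 σ
  haveI : IsFinite h := hfin
  haveI : IsAffine W.toScheme := hWaff
  obtain ⟨u₀⟩ := (inferInstance : Nonempty U.toScheme)
  obtain ⟨w₀, -⟩ := hsur u₀
  haveI : Nonempty W.toScheme := ⟨w₀⟩
  haveI : IsIntegral W.toScheme := inferInstance
  haveI : IsLocallyNoetherian V := LocallyOfFiniteType.isLocallyNoetherian pV
  let P := pullback f pV
  let p₁ : P ⟶ X := pullback.fst f pV
  let p₂ : P ⟶ V := pullback.snd f pV
  haveI : IsSeparated p₁ := inferInstance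
  haveI : IsSeparated p₂ := inferInstance
  let γ : W.toScheme ⟶ P := pullback.lift (h ≫ U.ι) W.ι (by rw [Category.assoc, hcomm])
  have hγ₁ : γ ≫ p₁ = h ≫ U.ι := pullback.lift_fst _ _ _
  have hγ₂ : γ ≫ p₂ = W.ι := pullback.lift_snd _ _ _
  haveI : IsImmersion (γ ≫ p₂) := by rw [hγ₂]; infer_instance
  haveI : IsImmersion γ := IsImmersion.of_comp γ p₂
  haveI : IsProper (p₁ ≫ f) := inferInstance
  haveI : QuasiSeparatedSpace P := quasiSeparatedSpace_of_quasiSeparated (p₁ ≫ f)
  haveI : QuasiCompact γ := inferInstance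
  -- the modification
  haveI := CohFinite.isReduced_image γ
  haveI : IrreducibleSpace γ.image := by
    rw [irreducibleSpace_def]
    convert ((IrreducibleSpace.isIrreducible_univ W.toScheme).image _
      γ.toImage.continuous.continuousOn).closure
    simpa using γ.toImage.denseRange.closure_range.symm
  haveI : IsIntegral γ.image := isIntegral_of_irreducibleSpace_of_isReduced _
  let Y := γ.image
  let π : Y ⟶ V := γ.imageι ≫ p₂
  let q : Y ⟶ X := γ.imageι ≫ p₁
  haveI : IsProper π := inferInstance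
  haveI : IsProper q := inferInstance
  have hπ : γ.toImage ≫ π = W.ι := by rw [← Category.assoc, γ.toImage_imageι, hγ₂]
  have hq : γ.toImage ≫ q = h ≫ U.ι := by rw [← Category.assoc, γ.toImage_imageι, hγ₁]
  have hgY : γ.toImage (genericPoint W.toScheme) = genericPoint Y :=
    genericPoint_eq_of_isOpenImmersion γ.toImage
  have hgW : W.ι (genericPoint W.toScheme) = genericPoint V := genericPoint_eq_of_isOpenImmersion W.ι
  have hgen : π (genericPoint Y) = genericPoint V := by
    rw [← hgY, ← Scheme.Hom.comp_apply, hπ, hgW]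
  have hbir : IsIso (π.stalkMap (genericPoint Y)) := by
    rw [← hgY]
    haveI : IsIso ((γ.toImage ≫ π).stalkMap (genericPoint W.toScheme)) := by rw [hπ]; infer_instance
    have e := Scheme.Hom.stalkMap_comp γ.toImage π (genericPoint W.toScheme)
    haveI : IsIso (π.stalkMap (γ.toImage (genericPoint W.toScheme)) ≫ γ.toImage.stalkMap (genericPoint W.toScheme)) :=
      e ▸ ‹_›
    exact IsIso.of_isIso_comp_right _ (γ.toImage.stalkMap (genericPoint W.toScheme))
  have hfib : ∀ v : V, _root_.IsConnected (π ⁻¹' {v}) := fun v => by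
    haveI := Groth.Agent.S15544.result hN π hgen hbir v
    haveI : ConnectedSpace ↥(π ⁻¹' {v}) := (π.fiberHomeo v).surjective.connectedSpace (π.fiberHomeo v).continuous
    exact isConnected_iff_connectedSpace.mpr inferInstance
  -- dimension of the completion
  have hVdim : 2 ≤ topologicalKrullDim V := by
    haveI : Nonempty U := ⟨⟨_, hne.choose_spec⟩⟩
    haveI : Nonempty W := ⟨⟨w₀.1, w₀.2⟩⟩
    rw [← ringKrullDim_affine_eq pV hWaff]
    refine hdim.trans ?_
    rw [← ringKrullDim_affine_eq f hU]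
    have hfin : h.appTop.hom.Finite := h.finite_app ⊤ (isAffineOpen_top _)
    let := h.appTop.hom.toAlgebra
    haveI : Module.Finite Γ(U.toScheme, ⊤) Γ(W.toScheme, ⊤) := hfin
    have hinj : Function.Injective (algebraMap Γ(U.toScheme, ⊤) Γ(W.toScheme, ⊤)) := by
      rw [injective_iff_map_eq_zero]
      intro r hr
      refine eq_zero_of_basicOpen_eq_bot r (TopologicalSpace.Opens.ext (Set.eq_empty_of_forall_notMem fun u hu => ?_))
      obtain ⟨w, rfl⟩ := hsur u
      have : w ∈ h ⁻¹ᵁ U.toScheme.basicOpen r := hu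
      rw [Scheme.preimage_basicOpen_top, show h.appTop r = 0 from hr, Scheme.basicOpen_zero] at this
      exact this
    rw [← U.topIso.commRingCatIsoToRingEquiv.ringKrullDim, ← W.topIso.commRingCatIsoToRingEquiv.ringKrullDim,
      DimTrdeg.ringKrullDim_eq_of_isIntegral Γ(U.toScheme, ⊤) Γ(W.toScheme, ⊤) hinj]
  have hB := isConnected_compl_genOpen pV hN hVdim hL σ ⟨w₀.1, w₀.2⟩
  have hrange : ∀ y : Y, γ.imageι y ∈ closure (Set.range γ) := fun y => by
    have hy : y ∈ closure (Set.range γ.toImage) := by rw [γ.toImage.denseRange.closure_range]; trivial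
    have := image_closure_subset_closure_image γ.imageι.continuous ⟨y, hy, rfl⟩
    refine closure_mono ?_ this
    rintro _ ⟨_, ⟨w, rfl⟩, rfl⟩
    exact ⟨w, by rw [← Scheme.Hom.comp_apply, γ.toImage_imageι]⟩
  have hback : ∀ y : Y, γ.imageι y ∈ Set.range γ → π y ∈ W ∧ q y ∈ U := fun y hy => by
    obtain ⟨w, hw⟩ := hy
    refine ⟨?_, ?_⟩
    · show p₂ (γ.imageι y) ∈ W
      rw [← hw, ← Scheme.Hom.comp_apply, hγ₂]
      exact w.2
    · show p₁ (γ.imageι y) ∈ U
      rw [← hw, ← Scheme.Hom.comp_apply, hγ₁, Scheme.Hom.comp_apply]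
      exact (h w).2
  have hiff : ∀ y : Y, π y ∈ W ↔ q y ∈ U := fun y =>
    ⟨fun hy => (hback y (mem_range_of_mem_closure γ p₂ W (𝟙 _) (by rw [Category.id_comp, hγ₂]) (hrange y) hy)).2,
      fun hy => (hback y (mem_range_of_mem_closure γ p₁ U h hγ₁.symm (hrange y) hy)).1⟩
  have hqsur : Function.Surjective q := by
    have hcl : IsClosed (Set.range q) := q.isClosedMap.isClosed_range
    have hd : Dense (U : Set X) := U.2.dense hne
    intro x
    refine hcl.closure_subset_iff.mpr ?_ (hd x)
    intro u hu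
    obtain ⟨w, hw⟩ := hsur ⟨u, hu⟩
    refine ⟨γ.toImage w, ?_⟩
    rw [← Scheme.Hom.comp_apply, hq, Scheme.Hom.comp_apply, hw]
    rfl
  have heq : ((U : Set X))ᶜ = q '' (π ⁻¹' ((W : Set V)ᶜ)) := by
    ext x
    refine ⟨fun hx => ?_, ?_⟩
    · obtain ⟨y, rfl⟩ := hqsur x
      exact ⟨y, fun hy => hx ((hiff y).mp hy), rfl⟩
    · rintro ⟨y, hy, rfl⟩
      exact fun h' => hy ((hiff y).mpr h')
  rw [heq]
  exact (isConnected_preimage π π.isClosedMap hfib hB).image q q.continuous.continuousOn

/-- **Complements of affine opens are connected.** -/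
theorem isConnected_compl_affineOpen {X : Scheme.{u}} (f : X ⟶ Spec (CommRingCat.of k)) [IsProper f]
    [IrreducibleSpace X] (hdim : 2 ≤ topologicalKrullDim X) {U : X.Opens} (hU : IsAffineOpen U)
    (hne : (U : Set X).Nonempty) : _root_.IsConnected ((U : Set X)ᶜ) := by
  let i := X.nilradical.subschemeι
  haveI : AlgebraicGeometry.IsReduced X.nilradical.subscheme := GeomRedAt.isReduced_nilradical_subscheme X
  have hsur : Function.Surjective i := fun x => by
    have : x ∈ Set.range i := by rw [Scheme.IdealSheafData.range_subschemeι, Scheme.support_nilradical]; trivial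
    exact this
  let e : X.nilradical.subscheme ≃ₜ X :=
    i.isEmbedding.toHomeomorphOfSurjective hsur
  haveI : IrreducibleSpace X.nilradical.subscheme := by
    refine (irreducibleSpace_def _).mpr ?_
    have := (IrreducibleSpace.isIrreducible_univ X).image e.symm e.symm.continuous.continuousOn
    rwa [Set.image_univ, e.symm.surjective.range_eq] at this
  haveI : IsIntegral X.nilradical.subscheme := isIntegral_of_irreducibleSpace_of_isReduced _
  have h := isConnected_compl_of_isIntegral (i ≫ f)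
    (hdim.trans (le_of_eq (e.isHomeomorph.topologicalKrullDim_eq).symm)) (hU.preimage i)
    (U := i ⁻¹ᵁ U) (by obtain ⟨x, hx⟩ := hne; obtain ⟨y, rfl⟩ := hsur x; exact ⟨y, hx⟩)
  have := h.image i i.continuous.continuousOn
  rwa [show ((i ⁻¹ᵁ U : Set X.nilradical.subscheme))ᶜ = i ⁻¹' (U : Set X)ᶜ from rfl,
    Set.image_preimage_eq _ hsur] at this

end Groth.Agent.ConnDiv
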