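import Groth.Agent.NegVanish.Connected
import Groth.Agent.DepthSections.FlatExtend
import Groth.Agent.GeomUnib.DimFormula
import Groth.Agent.GeomUnib.DimIneq
import Groth.Agent.FibDim.Scheme
import Groth.Agent.InvPow.Locus

/-!
# Ample divisors on normal varieties are connected

`ringKrullDim_stalk_closed`, `isConnected_compl_genOpen`.
-/

universe u

open CategoryTheory CategoryTheory.Limits AlgebraicGeometry TopologicalSpace Opposite

set_option backward.isDefEq.respectTransparency false

namespace Groth.Agent.ConnDiv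

open InvBasic ProjUniv Groth.Agent.InvPow

variable {X : Scheme.{u}} {k : Type u} [Field k]

/-- The dimension of an integral scheme is that of any non-empty affine open. -/
theorem ringKrullDim_affine_eq [IsIntegral X] (f : X ⟶ Spec (CommRingCat.of k)) [LocallyOfFiniteType f]
    {V : X.Opens} (hV : IsAffineOpen V) [Nonempty V] : ringKrullDim Γ(X, V) = topologicalKrullDim X := by
  have h := FibDim.dim_closure_openImmersion hV.fromSpec f (⊥ : PrimeSpectrum Γ(X, V))
  have h1 : hV.fromSpec (⊥ : PrimeSpectrum Γ(X, V)) = genericPoint X := by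
    haveI : Nonempty V.toScheme := ‹_›
    exact GeomUnib.fromSpec_bot hV
  rw [h1, genericPoint_spec X] at h
  rw [DimTrdeg.topologicalKrullDim_closure_inter] at h
  refine Eq.trans ?_ (h.symm.trans (IsHomeomorph.topologicalKrullDim_eq (Subtype.val) (Homeomorph.Set.univ X).isHomeomorph))
  exact (RingEquiv.quotientBot _).ringKrullDim.symm

/-- At a closed point of an integral scheme of finite type over a field the local ring has full dimension. -/
theorem ringKrullDim_stalk_closed [IsIntegral X] (f : X ⟶ Spec (CommRingCat.of k)) [LocallyOfFiniteType f]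
    (x : X) (hx : IsClosed ({x} : Set X)) : topologicalKrullDim X ≤ ringKrullDim (X.presheaf.stalk x) := by
  obtain ⟨V, hV, hxV, -⟩ := exists_isAffineOpen_mem_and_subset (Opens.mem_top x : x ∈ (⊤ : X.Opens))
  haveI : Nonempty V := ⟨⟨x, hxV⟩⟩
  rw [← ringKrullDim_affine_eq f hV]
  let φ : CommRingCat.of k ⟶ Γ(X, V) := (Scheme.ΓSpecIso (CommRingCat.of k)).inv ≫ f.appLE ⊤ V (by simp)
  algebraize [φ.hom]
  have : Algebra.FiniteType k Γ(X, V) := by
    refine (RingHom.finiteType_algebraMap).mp ?_
    exact (f.finiteType_appLE (isAffineOpen_top _) hV (by simp)).comp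
      (RingHom.FiniteType.of_surjective _
        (Scheme.ΓSpecIso (CommRingCat.of k)).commRingCatIsoToRingEquiv.symm.surjective)
  let q := hV.primeIdealOf ⟨x, hxV⟩
  haveI hq : q.asIdeal.IsMaximal := by
    rw [← PrimeSpectrum.isClosed_singleton_iff_isMaximal]
    have := hx.preimage hV.fromSpec.continuous
    have he : ({q} : Set (Spec Γ(X, V))) = hV.fromSpec ⁻¹' {x} := Set.ext fun z =>
      ⟨fun h => by
        rw [Set.mem_singleton_iff] at h
        subst h
        exact hV.fromSpec_primeIdealOf ⟨x, hxV⟩,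
      fun h => hV.fromSpec.isOpenEmbedding.injective
        ((Set.mem_singleton_iff.mp h).trans (hV.fromSpec_primeIdealOf ⟨x, hxV⟩).symm)⟩
    exact he ▸ this
  obtain ⟨s, r, hs, hr, l, hl, hle⟩ := GeomUnib.exists_series_of_domain k Γ(X, V) q.asIdeal
  letI : Algebra Γ(X, V) (X.presheaf.stalk x) := TopCat.Presheaf.algebra_section_stalk X.presheaf (⟨x, hxV⟩ : V)
  haveI := hV.isLocalization_stalk ⟨x, hxV⟩
  rw [IsLocalization.AtPrime.ringKrullDim_eq_height q.asIdeal (X.presheaf.stalk x), hs]
  have hr0 : r = 0 := by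
    letI := Ideal.Quotient.field q.asIdeal
    rw [ringKrullDim_eq_zero_of_field] at hr
    exact_mod_cast hr.symm
  subst hr0
  have h2 : (l.length : ℕ∞) ≤ q.asIdeal.height := by
    refine le_of_le_of_eq (Order.length_le_height (le_of_eq (PrimeSpectrum.ext hl))) ?_
    exact (PrimeSpectrum.height_eq_orderHeight q).symm
  have h3 : ((s : ℕ∞) : WithBot ℕ∞) ≤ (q.asIdeal.height : WithBot ℕ∞) :=
    WithBot.coe_le_coe.mpr (le_trans (by exact_mod_cast hle) h2)
  exact_mod_cast h3

/-- A non-zero global section of an invertible module on an integral scheme is regular. -/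
theorem mono_globalHom [IsIntegral X] {L : X.Modules} (hL : PicF.IsInvertible L) (σ : Γ(L, ⊤))
    (hσ : (genOpen hL σ : Set X).Nonempty) : Mono (ProjTwist.globalHom L σ) := by
  refine (QCohLib.mono_iff_app_injective _).mpr fun W => ?_
  rw [injective_iff_map_eq_zero]
  intro r hr
  have hr' : (show Γ(X, W) from r) • L.presheaf.map (homOfLE (le_top : W ≤ ⊤)).op σ = 0 :=
    (ProjTwist.globalHom_app L σ W r).symm.trans hr
  by_cases hW : (W : Set X).Nonempty
  · obtain ⟨y, hy⟩ := nonempty_preirreducible_inter W.2 (genOpen hL σ).2 hW hσ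
    let W' := W ⊓ genOpen hL σ
    have h0 : resR (inf_le_left : W' ≤ W) (show Γ(X, W) from r) = 0 := by
      refine (isBasis_genOpen hL σ W' inf_le_right).1 ?_
      show _ • res L _ (gres L σ (genOpen hL σ)) = (0 : Γ(X, W')) • _
      rw [res_gres, zero_smul, ← res_gres L σ (inf_le_left : W' ≤ W), ← res_smul]
      exact (congrArg (res L inf_le_left) hr').trans (map_zero _)
    haveI : Nonempty W := ⟨⟨_, hW.choose_spec⟩⟩
    haveI : Nonempty W' := ⟨⟨y, hy⟩⟩
    exact map_injective_of_isIntegral X (homOfLE (inf_le_left : W' ≤ W)) (h0.trans (map_zero _).symm)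
  · have : W = ⊥ := TopologicalSpace.Opens.ext (Set.not_nonempty_iff_eq_empty.mp hW)
    subst this
    exact Subsingleton.elim (α := Γ(X, (⊥ : X.Opens))) _ _

/-- **On a normal variety of dimension at least two the zero locus of a section of an ample module is connected.** -/
theorem isConnected_compl_genOpen [IsIntegral X] (f : X ⟶ Spec (CommRingCat.of k)) [IsProper f]
    (hN : Pi1.IsNormalScheme X) (hdim : 2 ≤ topologicalKrullDim X) {L : X.Modules} (hL : CohB1.IsAmple L)
    (σ : Γ(L, ⊤)) (hσ : (genOpen hL.1 σ : Set X).Nonempty) :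
    _root_.IsConnected ((genOpen hL.1 σ : Set X)ᶜ) := by
  haveI : IsLocallyNoetherian X := LocallyOfFiniteType.isLocallyNoetherian f
  haveI := mono_globalHom hL.1 σ hσ
  haveI := NegVanish.connectedSpace_zeroScheme f hL (ProjTwist.globalHom L σ) fun x hx =>
    DepthSections.two_le_depth_of_normal hN x
      (lt_of_lt_of_le (by exact_mod_cast one_lt_two) (hdim.trans (ringKrullDim_stalk_closed f x hx)))
  have hsec : (PicF2.secVal L (ProjTwist.globalHom L σ) ⊤ : Γ(L, ⊤)) = σ := by
    show (ProjTwist.globalHom L σ).app ⊤ (1 : Γ(X, ⊤)) = σ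
    rw [ProjTwist.globalHom_app, one_smul, QCohLib.map_self]
  have h := isConnected_range (PicF2.zeroScheme L (ProjTwist.globalHom L σ)).subschemeι.continuous
  rwa [Scheme.IdealSheafData.range_subschemeι, NegVanish.support_zeroScheme hL.1, hsec] at h

end Groth.Agent.ConnDiv
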